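import Groth.Agent.Lib.BC8.BidualRing
import Groth.Agent.Lib.KFlat.BaseChange
import Groth.Agent.Lib.DlzFin27.Adj
import Groth.Agent.Lib.KFlat.DTenBase

/-! Hom complexes, shifts and coextension. -/

set_option autoImplicit false
set_option linter.style.haveILetI false
set_option linter.unusedSectionVars false
set_option backward.isDefEq.respectTransparency false
set_option backward.isDefEq.respectTransparency.types false

universe u

open CategoryTheory CategoryTheory.Limits MonoidalCategory CochainComplex CochainComplex.HomComplex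

attribute [local instance] HasDerivedCategory.standard

noncomputable section

namespace Groth.Agent.DualBC8

/-- `Hom•(G, V[n]) ≅ Hom•(G, V)[n]`. -/
def homShiftIso {A : Type u} [CommRing A] (G V : DRing.Cx A) (n : ℤ) :
    DRing.homCx G (V⟦n⟧) ≅ (DRing.homCx G V)⟦n⟧ :=
  HomologicalComplex.Hom.isoOfComponents
    (fun m => LinearEquiv.toModuleIso (X₁ := ModuleCat.of A (Cochain G (V⟦n⟧) m))
      (X₂ := ModuleCat.of A (Cochain G V (m + n)))
      { toFun := fun z => z.rightUnshift (m + n) rfl
        map_add' := fun z z' => Cochain.rightUnshift_add _ _ _ _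
        map_smul' := fun r z => by simp
        invFun := fun z => z.rightShift n m rfl
        left_inv := fun z => Cochain.rightShift_rightUnshift _ _ _
        right_inv := fun z => Cochain.rightUnshift_rightShift _ _ _ _ })
    fun i k (h : i + 1 = k) => by
      ext z
      change n.negOnePow • δ (i + n) (k + n) (Cochain.rightUnshift (show Cochain G (V⟦n⟧) i from z) (i + n) rfl) =
        Cochain.rightUnshift (δ i k (show Cochain G (V⟦n⟧) i from z)) (k + n) rfl
      rw [Cochain.δ_rightUnshift _ _ _ (k + n) k rfl, smul_smul, Int.units_mul_self, one_smul]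

variable {P B : Type u} [CommRing P] [CommRing B] (ψ : P →+* B)

/-- Coextension of complexes. -/
abbrev co : DRing.Cx P ⥤ DRing.Cx B :=
  (ModuleCat.coextendScalars.{u, u, u} ψ).mapHomologicalComplex (ComplexShape.up ℤ)

theorem nonempty_homCx_co (G V : DRing.Cx P) :
    Nonempty (DRing.homCx ((DTen.extCx ψ).obj G) ((co ψ).obj V) ≅ (co ψ).obj (DRing.homCx G V)) := by
  haveI : (ModuleCat.coextendScalars.{u, u, u} ψ).Additive := DlzFin27.additive_coextend ψ
  let a : DTen.resCx ψ ⊣ co ψ := KInjLib.adjComplexes (ModuleCat.restrictCoextendScalarsAdj.{u} ψ) _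
  let a₁ := (KFlat.HomAdj.adj ((DTen.extCx ψ).obj G)).comp a
  let a₂ := a.comp (KFlat.HomAdj.adj G)
  let e : tensorRight ((DTen.extCx ψ).obj G) ⋙ DTen.resCx ψ ≅ DTen.resCx ψ ⋙ tensorRight G :=
    NatIso.ofComponents (fun L => KFlat.Module.projCxIso ψ L G) fun {L L'} f => by
      have h := KFlat.transferIso_naturality (KFlat.Module.TM B) (KFlat.Module.TM P) (𝟭 _) (ModuleCat.extendScalars ψ)
        (ModuleCat.restrictScalars ψ) (𝟭 _) (ModuleCat.restrictScalars ψ) (KFlat.Module.natural_projEquiv ψ) f (𝟙 G)
      simp only [CategoryTheory.Functor.map_id] at h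
      exact h
  exact ⟨(Adjunction.rightAdjointUniq a₁ (a₂.ofNatIsoLeft e.symm)).app V⟩

end Groth.Agent.DualBC8
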