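import Groth.Agent.Lib.DualBC8.Psi
import Groth.Agent.Lib.DualBC8.Shift
import Groth.Agent.Lib.GorFib27.Apps
import Groth.Agent.Lib.BC8.ShriekVia
import Groth.Agent.Lib.BC8.BidualSch
import Groth.Agent.Lib.RGamma27.FlatBC
import Groth.Prelude.Def_DualSh

/-! `f^! K = D_B (D_A K ⊗ B)`. -/

set_option autoImplicit false
set_option linter.style.haveILetI false
set_option linter.unusedSectionVars false
set_option backward.isDefEq.respectTransparency false
set_option backward.isDefEq.respectTransparency.types false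
set_option maxHeartbeats 1000000

universe u

open CategoryTheory CategoryTheory.Limits CochainComplex CochainComplex.HomComplex

attribute [local instance] HasDerivedCategory.standard

noncomputable section

namespace Groth.Agent.DualBC8

theorem nonempty_rHomCx_congr {R : Type u} [CommRing R] (E E' : DRing.Cx R) [DRing.HasRHomCx E] [DRing.HasRHomCx E']
    (e : DerivedCategory.Q.obj E ≅ DerivedCategory.Q.obj E') (M : Dual.D R) :
    Nonempty ((DRing.RHomCx E).obj M ≅ (DRing.RHomCx E').obj M) := by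
  haveI : DTen.HasLTen R := KFlat.DT.hasLTen
  haveI : DTen.HasRHom R := KFlat.HomD.hasRHom R
  obtain ⟨r⟩ := KFlat.HomD.nonempty_rHomCx_iso E
  obtain ⟨r'⟩ := KFlat.HomD.nonempty_rHomCx_iso E'
  exact ⟨r.app M ≪≫ ((Adjunction.rightAdjointUniq
      ((DTen.rhomAdj R (DerivedCategory.Q.obj E)).ofNatIsoLeft ((DTen.LTen R).flip.mapIso e))
      (DTen.rhomAdj R (DerivedCategory.Q.obj E'))).app M) ≪≫ (r'.app M).symm⟩

theorem nonempty_via_dual {A B : Type u} [CommRing A] [CommRing B] [IsNoetherianRing A] [Algebra A B] (n : ℕ)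
    (ψ : MvPolynomial (Fin n) A →ₐ[A] B) [DRing.HasLBaseChange (algebraMap A (MvPolynomial (Fin n) A))]
    (Rψ : Dual.D (MvPolynomial (Fin n) A) ⥤ Dual.D B) (adj : DRing.restrictD ψ.toRingHom ⊣ Rψ)
    [DRing.HasLBaseChange (algebraMap A B)] (ω : Dual.D A) (hω : Dual.IsDualizing A ω) (K : DRing.Cx A)
    [DRing.HasRHomCx K] (hK : ∀ i : ℤ, _root_.Module.Finite A (Dual.HD A (DRing.toD K) i)) (E : DRing.Cx B)
    [DRing.HasRHomCx E] (hE : DRing.toD E ≅ (DRing.LBaseChange (algebraMap A B)).obj ((DRing.RHomCx K).obj ω)) :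
    Nonempty (Dual2.shriekVia n Rψ (DRing.toD K) ≅ (DRing.RHomCx E).obj (Dual2.shriekVia n Rψ ω)) := by
  let P := MvPolynomial (Fin n) A
  let α := algebraMap A P
  let ψ₀ : P →+* B := ψ.toRingHom
  have hcomp : ψ₀.comp α = algebraMap A B := ψ.comp_algebraMap
  have hflat : α.Flat := RingHom.flat_algebraMap_iff.2 inferInstance
  haveI : Algebra.Smooth A P := ⟨inferInstance, inferInstance⟩
  -- models
  let M := Dlz27.model hω
  obtain ⟨rK⟩ := KFlat.HomD.nonempty_rHomCx_Q_iso K M.W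
  let H := DRing.homCx K M.W
  let eH : (DRing.RHomCx K).obj ω ≅ DerivedCategory.Q.obj H := (DRing.RHomCx K).mapIso M.e.symm ≪≫ rK
  let M' := Dlz27.model (GorFib27.isDualizing_LBaseChange_smooth (A := A) (B := P) hω)
  haveI := RGamma27.isIso_valueMap_of_flat α hflat M.W
  haveI := RGamma27.isIso_valueMap_of_flat α hflat K
  haveI := RGamma27.isIso_valueMap_of_flat α hflat H
  let eW : DerivedCategory.Q.obj ((DTen.extCx α).obj M.W) ≅ DerivedCategory.Q.obj M'.W :=
    (asIso ((DBaseChange.valueMap α).app M.W)).symm ≪≫ (DRing.LBaseChange α).mapIso M.e ≪≫ M'.e.symm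
  obtain ⟨q, hq⟩ := KInjLib.exists_map_eq eW.hom
  haveI : QuasiIso q := by
    rw [← DerivedCategory.isIso_Q_map_iff_quasiIso, hq]
    infer_instance
  have hK' : ∀ i, _root_.Module.Finite A (K.homology i) := fun i => by
    haveI : _root_.Module.Finite A ((DerivedCategory.Q ⋙ DerivedCategory.homologyFunctor (ModuleCat.{u} A) i).obj K) := hK i
    exact _root_.Module.Finite.equiv ((DerivedCategory.homologyFunctorFactors _ i).app K).toLinearEquiv
  have hH : ∀ i, _root_.Module.Finite A (H.homology i) := fun i => by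
    haveI := (BC8.HomDual.biduality hω K hK).1 i
    exact _root_.Module.Finite.equiv
      ((DerivedCategory.homologyFunctor _ i).mapIso eH ≪≫
        (DerivedCategory.homologyFunctorFactors _ i).app H).toLinearEquiv
  haveI := BC8.HomDual.quasiIso_bidual M.W M.e hω M.inj M.lo M.hi K hK'
  haveI := quasiIso_Ψ α q M.lo M.hi hflat M'.hi M.inj M'.inj H hH
  haveI : QuasiIso ((DTen.extCx α).map (BC8.HomDual.bidual M.W K)) :=
    DBaseChange.quasiIso_ext_of_flat hflat _
  -- a K-flat model of the dual over P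
  let G := (KFlat.DT.res P).obj ((DTen.extCx α).obj H)
  let g : G ⟶ (DTen.extCx α).obj H := (KFlat.DT.aug P).app _
  haveI : QuasiIso g := KFlat.DT.qis_aug _
  haveI := BC8.HomDual.quasiIso_pre M'.W g
  let eK : (DRing.LBaseChange α).obj (DRing.toD K) ≅ DerivedCategory.Q.obj (DRing.homCx G M'.W) :=
    asIso ((DBaseChange.valueMap α).app K) ≪≫
      asIso (DerivedCategory.Q.map ((DTen.extCx α).map (BC8.HomDual.bidual M.W K))) ≪≫
      asIso (DerivedCategory.Q.map (Ψ α q H)) ≪≫ asIso (DerivedCategory.Q.map (BC8.HomDual.pre M'.W g))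
  haveI := DQC.hasLBaseChange ψ₀
  haveI := DQC.hasLBaseChange (ψ₀.comp α)
  haveI := DBaseChange.isIso_valueMap ψ₀ G (DBaseChange.adapted_res _)
  obtain ⟨l⟩ := BC8.nonempty_lbcComp α ψ₀
  have l₃ : Nonempty ((DRing.LBaseChange (ψ₀.comp α)).obj (DerivedCategory.Q.obj H) ≅
      (DRing.LBaseChange (algebraMap A B)).obj (DerivedCategory.Q.obj H)) := by
    revert ‹DRing.HasLBaseChange (ψ₀.comp α)›
    rw [hcomp]
    intro _ _
    exact ⟨Iso.refl _⟩
  let E' := (DTen.extCx ψ₀).obj G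
  let eE : DerivedCategory.Q.obj E ≅ DerivedCategory.Q.obj E' :=
    hE ≪≫ (DRing.LBaseChange (algebraMap A B)).mapIso eH ≪≫ l₃.some.symm ≪≫ (l.app _).symm ≪≫
      (DRing.LBaseChange ψ₀).mapIso (asIso ((DBaseChange.valueMap α).app H) ≪≫
        (asIso (DerivedCategory.Q.map g)).symm) ≪≫ asIso ((DBaseChange.valueMap ψ₀).app G)
  haveI := BC8.hasRHomCx E'
  -- shifted complexes and the upper adjoint
  let V : DRing.Cx P := M'.W⟦(n : ℤ)⟧
  haveI : V.IsKInjective := inferInstance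
  letI : Algebra P B := ψ₀.toAlgebra
  have hGf : DRing.IsKFlat P G := KFlat.DT.isKFlat_res _
  haveI : CochainComplex.IsKInjective (DRing.homCx G V) := KFlat.HomD.isKInjective_homCx hGf V
  haveI : (ModuleCat.coextendScalars.{u, u, u} ψ₀).Additive := DlzFin27.additive_coextend ψ₀
  have hco : ∀ (X : DRing.Cx P) [X.IsKInjective], CochainComplex.IsKInjective ((co ψ₀).obj X) := fun X _ =>
    KInjLib.isKInjective_of_adj (ModuleCat.coextendScalars.{u, u, u} ψ₀) (ModuleCat.restrictScalars.{u} ψ₀)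
      (ModuleCat.restrictCoextendScalarsAdj.{u} ψ₀) X
  have hR : ∀ (X : DRing.Cx P) [X.IsKInjective],
      Nonempty (Rψ.obj (DerivedCategory.Q.obj X) ≅ DerivedCategory.Q.obj ((co ψ₀).obj X)) := fun X _ => by
    haveI : (DlzFin27.coextCx B X).IsKInjective := hco X
    exact DlzFin27.nonempty_rightAdjoint_iso X Rψ adj
  letI := adj.rightAdjointCommShift ℤ
  obtain ⟨r₁⟩ := hR V
  obtain ⟨r₂⟩ := hR (DRing.homCx G V)
  haveI := hco V
  obtain ⟨rE⟩ := KFlat.HomD.nonempty_rHomCx_Q_iso E' ((co ψ₀).obj V)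
  obtain ⟨cV⟩ := nonempty_homCx_co ψ₀ G V
  obtain ⟨rc⟩ := nonempty_rHomCx_congr E E' eE (DerivedCategory.Q.obj ((co ψ₀).obj V))
  let eω : Dual2.shriekVia n Rψ ω ≅ DerivedCategory.Q.obj ((co ψ₀).obj V) :=
    ((Rψ.commShiftIso (n : ℤ)).app _).symm ≪≫
      Rψ.mapIso ((CategoryTheory.shiftFunctor (Dual.D P) (n : ℤ)).mapIso M'.e.symm ≪≫
        ((DerivedCategory.Q.commShiftIso (n : ℤ)).app M'.W).symm) ≪≫ r₁
  exact ⟨((Rψ.commShiftIso (n : ℤ)).app _).symm ≪≫
    Rψ.mapIso ((CategoryTheory.shiftFunctor (Dual.D P) (n : ℤ)).mapIso eK ≪≫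
      ((DerivedCategory.Q.commShiftIso (n : ℤ)).app _).symm ≪≫
        DerivedCategory.Q.mapIso (homShiftIso G M'.W (n : ℤ)).symm) ≪≫ r₂ ≪≫
    DerivedCategory.Q.mapIso cV.symm ≪≫ rE.symm ≪≫ rc.symm ≪≫ (DRing.RHomCx E).mapIso eω.symm⟩

end Groth.Agent.DualBC8
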