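import Groth.Agent.Lib.BC8.BidualRing
import Groth.Agent.Lib.KFlat.BcD
import Groth.Agent.Lib.Dlz27.FlatExt
import Groth.Agent.Lib.DBaseChange.TorDescent

/-! Flat base change of `RHom` from complexes with finite cohomology into bounded injective complexes. -/

set_option autoImplicit false
set_option linter.style.haveILetI false
set_option linter.unusedSectionVars false
set_option backward.isDefEq.respectTransparency false
set_option backward.isDefEq.respectTransparency.types false
set_option maxHeartbeats 1000000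

universe u

open CategoryTheory CategoryTheory.Limits CochainComplex CochainComplex.HomComplex

attribute [local instance] HasDerivedCategory.standard

noncomputable section

namespace Groth.Agent.DualBC8

open KFlat.HomAdj (coc homCxMap_v)
open KFlat.Bc (β β_v un extCx_map_un)
open BC8.HomDual

variable {A B : Type u} [CommRing A] [CommRing B] (φ : A →+* B)

/-- Extension of complexes. -/
abbrev ext : DRing.Cx A ⥤ DRing.Cx B := DTen.extCx φ

theorem ext_hom {X : DRing.Cx A} {Z : DRing.Cx B} {f g : (ext φ).obj X ⟶ Z}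
    (h : ∀ (i : ℤ) (x : X.X i), f.f i (un φ X i x) = g.f i (un φ X i x)) : f = g :=
  HomologicalComplex.hom_ext _ _ fun i => ModuleCat.ExtendScalars.hom_ext fun x => h i x

variable {W : DRing.Cx A} {V : DRing.Cx B} (q : (ext φ).obj W ⟶ V)

/-- The comparison map. -/
def Ψ (X : DRing.Cx A) : (ext φ).obj (DRing.homCx X W) ⟶ DRing.homCx ((ext φ).obj X) V :=
  β φ X W ≫ (DRing.homCxFunctor ((ext φ).obj X)).map q

theorem Ψ_v (X : DRing.Cx A) (j p r : ℤ) (h : p + j = r) (z : (DRing.homCx X W).X j) (x : X.X p) :
    (coc ((Ψ φ q X).f j (un φ (DRing.homCx X W) j z))).v p r h (un φ X p x) =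
      q.f r (un φ W r ((coc z).v p r h x)) := by
  refine (homCxMap_v ((ext φ).obj X) q j ((β φ X W).f j (un φ (DRing.homCx X W) j z)) p r h (un φ X p x)).trans ?_
  rw [β_v]

theorem Ψ_natural {X X' : DRing.Cx A} (g : X' ⟶ X) :
    Ψ φ q X ≫ pre V ((ext φ).map g) = (ext φ).map (pre W g) ≫ Ψ φ q X' := by
  refine ext_hom φ fun j z => Cochain.ext (F := (ext φ).obj X') (G := V) _ _ fun p r h =>
    ModuleCat.ExtendScalars.hom_ext fun x => ?_
  refine (pre_v V ((ext φ).map g) j ((Ψ φ q X).f j (un φ (DRing.homCx X W) j z)) p r h (un φ X' p x)).trans ?_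
  rw [extCx_map_un, Ψ_v]
  refine Eq.trans ?_ (congrArg (fun t => (coc ((Ψ φ q X').f j t)).v p r h (un φ X' p x))
    (extCx_map_un φ (pre W g) j z)).symm
  rw [Ψ_v, pre_v]

variable (lo hi : ℤ) [W.IsStrictlyGE lo] [W.IsStrictlyLE hi]

theorem exactAt_ext_hom (hφ : φ.Flat) (X : DRing.Cx A) (c : ℤ) [X.IsGE c] (j : ℤ) (hj : hi - c < j)
    [W.IsKInjective] : ((ext φ).obj (DRing.homCx X W)).ExactAt j := by
  haveI := ModuleCat.preservesFiniteLimits_extendScalars_of_flat.{u} hφ
  haveI := isLE_hom W X c hi
  have h := CochainComplex.exactAt_of_isLE (DRing.homCx X W) (hi - c) j hj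
  exact h.map (ModuleCat.extendScalars.{u, u, u} φ)

theorem exactAt_hom (X : DRing.Cx B) (c hi' : ℤ) [V.IsStrictlyLE hi'] [V.IsKInjective] [X.IsGE c] (j : ℤ)
    (hj : hi' - c < j) : (DRing.homCx X V).ExactAt j := by
  haveI := isLE_hom V X c hi'
  exact CochainComplex.exactAt_of_isLE (DRing.homCx X V) (hi' - c) j hj

include lo hi in
theorem isIso_β (X : DRing.Cx A) (hX : DRing.TermwiseFiniteFree X) : IsIso (β φ X W) := by
  haveI : ∀ n, IsIso ((β φ X W).f n) := fun n => by
    rw [ConcreteCategory.isIso_iff_bijective]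
    have : ∀ t : TensorProduct A (Dlz27.Bb φ) (Cochain X W n),
        (β φ X W).f n t = Dlz27.cochMap φ X W n t := by
      intro t
      induction t using TensorProduct.induction_on with
      | zero => exact (map_zero _).trans (map_zero _).symm
      | tmul b z =>
        have hbz : (show ((ext φ).obj (DRing.homCx X W)).X n from b ⊗ₜ[A] z) =
            (show B from b) • un φ (DRing.homCx X W) n z := by
          change _ = (show B from b) • Dlz27.tm φ 1 (show (DRing.homCx X W).X n from z)
          rw [Dlz27.smul_tm, mul_one]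
        refine (congrArg _ hbz).trans ((map_smul ((β φ X W).f n).hom _ _).trans ?_)
        refine congrArg ((show B from b) • ·) (Cochain.ext (F := (ext φ).obj X) (G := (ext φ).obj W) _ _ fun p r h =>
          ModuleCat.ExtendScalars.hom_ext fun x => ?_)
        exact β_v φ X W n p r h z x
      | add a c ha hc => exact (map_add _ _ _).trans ((congrArg₂ (· + ·) ha hc).trans (map_add _ _ _).symm)
    exact (funext this : ⇑((β φ X W).f n).hom = _) ▸ Dlz27.cochMap_bijective φ lo hi hX n
  exact HomologicalComplex.Hom.isIso_of_components _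

variable [QuasiIso q]

include lo hi in
theorem quasiIso_Ψ_free (X : DRing.Cx A) (b : ℤ) [X.IsStrictlyLE b] (hX : DRing.TermwiseFiniteFree X) :
    QuasiIso (Ψ φ q X) := by
  haveI := isIso_β φ lo hi (W := W) X hX
  haveI : X.IsKProjective := DMod.isKProjective b fun i => by
    haveI := (hX i).2
    infer_instance
  haveI := KFlat.Bc.isKProjective_extCx φ X
  haveI := KFlat.HomD.quasiIso_homCx_map ((ext φ).obj X) q
  exact inferInstanceAs (QuasiIso (β φ X W ≫ _))

variable [W.IsKInjective] [V.IsKInjective] [IsNoetherianRing A] (hφ : φ.Flat)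

include lo hi hφ in
theorem quasiIso_Ψ_le (X : DRing.Cx A) (b : ℤ) [X.IsStrictlyLE b]
    (hX : ∀ i, _root_.Module.Finite A (X.homology i)) : QuasiIso (Ψ φ q X) := by
  have hpc : DRing.IsPseudoCoherent' A (DRing.toD X) := (DMod.pc'_iff _).2 fun m =>
    DMod.pc_of_homology (b := b) fun i _ => by
      haveI : _root_.Module.Finite A
        ((HomologicalComplex.homologyFunctor (ModuleCat.{u} A) (ComplexShape.up ℤ) i).obj X) := hX i
      haveI : _root_.Module.Finite A (Dual.HD A (DRing.toD X) i) :=
        _root_.Module.Finite.equiv ((DerivedCategory.homologyFunctorFactors _ i).app X).symm.toLinearEquiv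
      exact DMod.pcModule_of_noetherian _ _
  obtain ⟨E, b', hb', hE, ⟨eE⟩⟩ := hpc
  haveI := (DMod.vanishesAbove_iff E b').1 hb'
  haveI : E.IsKProjective := DMod.isKProjective b' fun i => by
    haveI := (hE i).2
    infer_instance
  obtain ⟨g, hg⟩ := DMod.exists_map_eq eE.hom
  haveI : QuasiIso g := by
    rw [← DerivedCategory.isIso_Q_map_iff_quasiIso, hg]
    infer_instance
  haveI := quasiIso_Ψ_free φ q lo hi E b' hE
  haveI : QuasiIso ((ext φ).map g) := DBaseChange.quasiIso_ext_of_flat hφ g
  haveI := quasiIso_pre W g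
  haveI := quasiIso_pre V ((ext φ).map g)
  haveI : QuasiIso ((ext φ).map (pre W g)) := DBaseChange.quasiIso_ext_of_flat hφ _
  haveI : QuasiIso (Ψ φ q X ≫ pre V ((ext φ).map g)) := by
    rw [Ψ_natural]
    infer_instance
  exact quasiIso_of_comp_right _ (pre V ((ext φ).map g))

variable (lo' hi' : ℤ) [V.IsStrictlyGE lo'] [V.IsStrictlyLE hi']

include lo hi hi' hφ in
/-- The comparison is a quasi-isomorphism for finite cohomology. -/
theorem quasiIso_Ψ (hW : ∀ i, Injective (W.X i)) (hV : ∀ i, Injective (V.X i)) (K : DRing.Cx A)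
    (hK : ∀ i, _root_.Module.Finite A (K.homology i)) : QuasiIso (Ψ φ q K) := by
  haveI := ModuleCat.preservesFiniteLimits_extendScalars_of_flat.{u} hφ
  rw [quasiIso_iff]
  intro i
  rw [quasiIsoAt_iff_isIso_homologyMap]
  obtain ⟨m, hm1, hm2⟩ : ∃ m : ℤ, hi + 1 - i ≤ m ∧ hi' + 1 - i ≤ m :=
    ⟨max (hi + 1 - i) (hi' + 1 - i), by omega, by omega⟩
  let S : ∀ j, Submodule A (K.X j) := fun j =>
    if j < m then ⊤ else if j = m then LinearMap.ker (K.d j (j + 1)).hom else ⊥
  have hS : ∀ j, ∀ x ∈ S j, K.d j (j + 1) x ∈ S (j + 1) := by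
    intro j x hx
    by_cases h1 : j + 1 < m
    · simp [S, h1]
    by_cases h2 : j + 1 = m
    · subst h2
      simp only [S, lt_irrefl, if_false, if_true, LinearMap.mem_ker]
      exact congrArg (fun f : K.X j ⟶ K.X (j + 1 + 1) => f x) (K.d_comp_d j (j + 1) (j + 1 + 1))
    · by_cases h3 : j = m
      · simp only [S, h3, lt_irrefl, if_false, if_true, LinearMap.mem_ker] at hx
        subst h3
        simp [S, hx]
      · simp only [S, show ¬ j < m by omega, h3, if_false, Submodule.mem_bot] at hx
        rw [hx, map_zero]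
        exact zero_mem _
  haveI : (DMod.subCx K S hS).IsStrictlyLE m := by
    refine (CochainComplex.isStrictlyLE_iff _ _).2 fun j hj => (DMod.isZero_iff_subsingleton _).2 ?_
    change Subsingleton (S j)
    rw [show S j = ⊥ by simp [S, show ¬ j < m by omega, show j ≠ m by omega]]
    infer_instance
  have hC : ∀ j, j ≤ m → (DMod.quotCx K S hS).ExactAt j := fun j hj => by
    by_cases h1 : j < m
    · rw [HomologicalComplex.exactAt_iff_isZero_homology]
      refine (HomologicalComplex.exactAt_iff_isZero_homology _ _).1 (ShortComplex.exact_of_isZero_X₂ _ ?_)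
      haveI : Subsingleton (K.X j ⧸ S j) := by
        rw [Submodule.Quotient.subsingleton_iff]; simp [S, h1]
      exact (DMod.isZero_iff_subsingleton _).2 ‹_›
    · obtain rfl : j = m := by omega
      rw [HomologicalComplex.exactAt_iff' _ (j - 1) j (j + 1) (by simp) (by simp), ShortComplex.moduleCat_exact_iff]
      intro x hx
      obtain ⟨y, rfl⟩ := Submodule.Quotient.mk_surjective (S j) x
      refine ⟨0, (map_zero _).trans ((Submodule.Quotient.mk_eq_zero (S j)).2 ?_).symm⟩
      simp only [S, lt_irrefl, if_false, if_true, LinearMap.mem_ker]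
      simp [DMod.quotCx] at hx
      erw [Submodule.mapQ_apply, Submodule.Quotient.mk_eq_zero] at hx
      simpa [S] using hx
  haveI hQ : (DMod.quotCx K S hS).IsGE (m + 1) := (CochainComplex.isGE_iff _ _).2 fun j hj => hC j (by omega)
  have hses := shortExact_sesCx K S hS
  haveI : QuasiIso (Ψ φ q (sesCx K S hS).X₁) := by
    refine quasiIso_Ψ_le φ q lo hi hφ (DMod.subCx K S hS) m fun j => ?_
    by_cases hj : j ≤ m
    · have e1 := (HomologicalComplex.exactAt_iff_isZero_homology _ _).1 (hC (j - 1) (by omega))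
      have e2 := (HomologicalComplex.exactAt_iff_isZero_homology _ _).1 (hC j hj)
      haveI : Epi (HomologicalComplex.homologyMap (sesCx K S hS).f j) :=
        (hses.homology_exact₂ j).epi_f (e2.eq_of_tgt _ _)
      haveI : Mono (HomologicalComplex.homologyMap (sesCx K S hS).f j) :=
        (hses.homology_exact₁ (j - 1) j (sub_add_cancel j 1)).mono_g (e1.eq_of_src _ _)
      haveI := isIso_of_mono_of_epi (HomologicalComplex.homologyMap (sesCx K S hS).f j)
      haveI := hK j
      haveI : _root_.Module.Finite A ((sesCx K S hS).X₂.homology j) := hK j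
      exact _root_.Module.Finite.equiv
        (asIso (HomologicalComplex.homologyMap (sesCx K S hS).f j)).symm.toLinearEquiv
    · haveI := ModuleCat.subsingleton_of_isZero
        ((HomologicalComplex.exactAt_iff_isZero_homology _ _).1
          (CochainComplex.exactAt_of_isLE (DMod.subCx K S hS) m j (by omega)))
      infer_instance
  haveI hGE : ((ext φ).obj (DMod.quotCx K S hS)).IsGE (m + 1) :=
    (CochainComplex.isGE_iff _ _).2 fun j hj =>
      ((DMod.quotCx K S hS).exactAt_of_isGE (m + 1) j hj).map (ModuleCat.extendScalars.{u, u, u} φ)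
  have key : ∀ {T : ShortComplex (DRing.Cx B)}, T.ShortExact → T.X₁.ExactAt i → T.X₁.ExactAt (i + 1) →
      IsIso (HomologicalComplex.homologyMap T.g i) := fun {T} hT ha hb => by
    rw [HomologicalComplex.exactAt_iff_isZero_homology] at ha hb
    haveI : Mono (HomologicalComplex.homologyMap T.g i) := (hT.homology_exact₂ i).mono_g (ha.eq_of_src _ _)
    haveI : Epi (HomologicalComplex.homologyMap T.g i) :=
      (hT.homology_exact₃ i (i + 1) rfl).epi_f (hb.eq_of_tgt _ _)
    exact isIso_of_mono_of_epi _
  obtain ⟨w, hpre⟩ := shortExact_pre W hW hses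
  have hE : (ShortComplex.mk (pre W (sesCx K S hS).g) (pre W (sesCx K S hS).f) w).map
      (ext φ) |>.ShortExact := hpre.map_of_exact _
  obtain ⟨w', hpre'⟩ := shortExact_pre V hV (hses.map_of_exact (ext φ))
  have hL : ∀ j, i ≤ j → ((ext φ).obj (DRing.homCx (DMod.quotCx K S hS) W)).ExactAt j := fun j hj =>
    exactAt_ext_hom φ hi hφ (DMod.quotCx K S hS) (m + 1) j (by omega)
  have hR : ∀ j, i ≤ j → (DRing.homCx ((ext φ).obj (DMod.quotCx K S hS)) V).ExactAt j := fun j hj =>
    exactAt_hom ((ext φ).obj (DMod.quotCx K S hS)) (m + 1) hi' j (by omega)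
  haveI := key hE (hL i le_rfl) (hL (i + 1) (by omega))
  haveI : IsIso (HomologicalComplex.homologyMap (pre V ((ext φ).map (sesCx K S hS).f)) i) :=
    key hpre' (hR i le_rfl) (hR (i + 1) (by omega))
  haveI : IsIso (HomologicalComplex.homologyMap ((ext φ).map (pre W (sesCx K S hS).f)) i) :=
    key hE (hL i le_rfl) (hL (i + 1) (by omega))
  haveI : IsIso (HomologicalComplex.homologyMap (Ψ φ q (sesCx K S hS).X₁) i) := inferInstance
  have : IsIso (HomologicalComplex.homologyMap (Ψ φ q (sesCx K S hS).X₂) i ≫
      HomologicalComplex.homologyMap (pre V ((ext φ).map (sesCx K S hS).f)) i) := by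
    rw [← HomologicalComplex.homologyMap_comp, Ψ_natural, HomologicalComplex.homologyMap_comp]
    infer_instance
  exact IsIso.of_isIso_comp_right (HomologicalComplex.homologyMap (Ψ φ q (sesCx K S hS).X₂) i)
    (HomologicalComplex.homologyMap (pre V ((ext φ).map (sesCx K S hS).f)) i)

end Groth.Agent.DualBC8
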